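import Cfsg.Agent.Helper28.C1689.Data

set_option autoImplicit false

namespace Cfsg.Agent.Helper28.C1689

theorem rows_80 : Cfsg.Agent.Helper28.ptChunk (Cfsg.Agent.Helper28.rowChk D) 42407 512 80 = true := by decide +kernel

theorem rows_81 : Cfsg.Agent.Helper28.ptChunk (Cfsg.Agent.Helper28.rowChk D) 42407 512 81 = true := by decide +kernel

theorem rows_82 : Cfsg.Agent.Helper28.ptChunk (Cfsg.Agent.Helper28.rowChk D) 42407 512 82 = true := by decide +kernel

end Cfsg.Agent.Helper28.C1689
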