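import Cfsg.Agent.Helper28.C1689.OrbData

set_option autoImplicit false

namespace Cfsg.Agent.Helper28.C1689

theorem orb1_0 : Cfsg.Agent.Helper28.ptChunk (Cfsg.Agent.Helper28.orbPt T 31671 subL 3510 ov1 op1 otp1 otw1) 3510 256 0 = true := by decide +kernel

theorem orb1_1 : Cfsg.Agent.Helper28.ptChunk (Cfsg.Agent.Helper28.orbPt T 31671 subL 3510 ov1 op1 otp1 otw1) 3510 256 1 = true := by decide +kernel

theorem orb1_2 : Cfsg.Agent.Helper28.ptChunk (Cfsg.Agent.Helper28.orbPt T 31671 subL 3510 ov1 op1 otp1 otw1) 3510 256 2 = true := by decide +kernel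

theorem orb1_3 : Cfsg.Agent.Helper28.ptChunk (Cfsg.Agent.Helper28.orbPt T 31671 subL 3510 ov1 op1 otp1 otw1) 3510 256 3 = true := by decide +kernel

theorem orb1_4 : Cfsg.Agent.Helper28.ptChunk (Cfsg.Agent.Helper28.orbPt T 31671 subL 3510 ov1 op1 otp1 otw1) 3510 256 4 = true := by decide +kernel

theorem orb1_5 : Cfsg.Agent.Helper28.ptChunk (Cfsg.Agent.Helper28.orbPt T 31671 subL 3510 ov1 op1 otp1 otw1) 3510 256 5 = true := by decide +kernel

theorem orb1_6 : Cfsg.Agent.Helper28.ptChunk (Cfsg.Agent.Helper28.orbPt T 31671 subL 3510 ov1 op1 otp1 otw1) 3510 256 6 = true := by decide +kernel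

theorem orb1_7 : Cfsg.Agent.Helper28.ptChunk (Cfsg.Agent.Helper28.orbPt T 31671 subL 3510 ov1 op1 otp1 otw1) 3510 256 7 = true := by decide +kernel

end Cfsg.Agent.Helper28.C1689
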