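import Cfsg.Agent.Helper28.C1689.OrbData

set_option autoImplicit false

namespace Cfsg.Agent.Helper28.C1689

theorem orb1_8 : Cfsg.Agent.Helper28.ptChunk (Cfsg.Agent.Helper28.orbPt T 31671 subL 3510 ov1 op1 otp1 otw1) 3510 256 8 = true := by decide +kernel

theorem orb1_9 : Cfsg.Agent.Helper28.ptChunk (Cfsg.Agent.Helper28.orbPt T 31671 subL 3510 ov1 op1 otp1 otw1) 3510 256 9 = true := by decide +kernel

theorem orb1_10 : Cfsg.Agent.Helper28.ptChunk (Cfsg.Agent.Helper28.orbPt T 31671 subL 3510 ov1 op1 otp1 otw1) 3510 256 10 = true := by decide +kernel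

theorem orb1_11 : Cfsg.Agent.Helper28.ptChunk (Cfsg.Agent.Helper28.orbPt T 31671 subL 3510 ov1 op1 otp1 otw1) 3510 256 11 = true := by decide +kernel

theorem orb1_12 : Cfsg.Agent.Helper28.ptChunk (Cfsg.Agent.Helper28.orbPt T 31671 subL 3510 ov1 op1 otp1 otw1) 3510 256 12 = true := by decide +kernel

theorem orb1_13 : Cfsg.Agent.Helper28.ptChunk (Cfsg.Agent.Helper28.orbPt T 31671 subL 3510 ov1 op1 otp1 otw1) 3510 256 13 = true := by decide +kernel

end Cfsg.Agent.Helper28.C1689
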