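import Cfsg.Agent.Helper28.C1689.OrbData

set_option autoImplicit false

namespace Cfsg.Agent.Helper28.C1689

theorem orb2_0 : Cfsg.Agent.Helper28.ptChunk (Cfsg.Agent.Helper28.orbPt T 31671 subL 28160 ov2 op2 otp2 otw2) 28160 256 0 = true := by decide +kernel

theorem orb2_1 : Cfsg.Agent.Helper28.ptChunk (Cfsg.Agent.Helper28.orbPt T 31671 subL 28160 ov2 op2 otp2 otw2) 28160 256 1 = true := by decide +kernel

theorem orb2_2 : Cfsg.Agent.Helper28.ptChunk (Cfsg.Agent.Helper28.orbPt T 31671 subL 28160 ov2 op2 otp2 otw2) 28160 256 2 = true := by decide +kernel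

theorem orb2_3 : Cfsg.Agent.Helper28.ptChunk (Cfsg.Agent.Helper28.orbPt T 31671 subL 28160 ov2 op2 otp2 otw2) 28160 256 3 = true := by decide +kernel

theorem orb2_4 : Cfsg.Agent.Helper28.ptChunk (Cfsg.Agent.Helper28.orbPt T 31671 subL 28160 ov2 op2 otp2 otw2) 28160 256 4 = true := by decide +kernel

theorem orb2_5 : Cfsg.Agent.Helper28.ptChunk (Cfsg.Agent.Helper28.orbPt T 31671 subL 28160 ov2 op2 otp2 otw2) 28160 256 5 = true := by decide +kernel

theorem orb2_6 : Cfsg.Agent.Helper28.ptChunk (Cfsg.Agent.Helper28.orbPt T 31671 subL 28160 ov2 op2 otp2 otw2) 28160 256 6 = true := by decide +kernel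

theorem orb2_7 : Cfsg.Agent.Helper28.ptChunk (Cfsg.Agent.Helper28.orbPt T 31671 subL 28160 ov2 op2 otp2 otw2) 28160 256 7 = true := by decide +kernel

end Cfsg.Agent.Helper28.C1689
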