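import Cfsg.Agent.Helper28.C1689.OrbData

set_option autoImplicit false

namespace Cfsg.Agent.Helper28.C1689

theorem orb2_8 : Cfsg.Agent.Helper28.ptChunk (Cfsg.Agent.Helper28.orbPt T 31671 subL 28160 ov2 op2 otp2 otw2) 28160 256 8 = true := by decide +kernel

theorem orb2_9 : Cfsg.Agent.Helper28.ptChunk (Cfsg.Agent.Helper28.orbPt T 31671 subL 28160 ov2 op2 otp2 otw2) 28160 256 9 = true := by decide +kernel

theorem orb2_10 : Cfsg.Agent.Helper28.ptChunk (Cfsg.Agent.Helper28.orbPt T 31671 subL 28160 ov2 op2 otp2 otw2) 28160 256 10 = true := by decide +kernel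

theorem orb2_11 : Cfsg.Agent.Helper28.ptChunk (Cfsg.Agent.Helper28.orbPt T 31671 subL 28160 ov2 op2 otp2 otw2) 28160 256 11 = true := by decide +kernel

theorem orb2_12 : Cfsg.Agent.Helper28.ptChunk (Cfsg.Agent.Helper28.orbPt T 31671 subL 28160 ov2 op2 otp2 otw2) 28160 256 12 = true := by decide +kernel

theorem orb2_13 : Cfsg.Agent.Helper28.ptChunk (Cfsg.Agent.Helper28.orbPt T 31671 subL 28160 ov2 op2 otp2 otw2) 28160 256 13 = true := by decide +kernel

theorem orb2_14 : Cfsg.Agent.Helper28.ptChunk (Cfsg.Agent.Helper28.orbPt T 31671 subL 28160 ov2 op2 otp2 otw2) 28160 256 14 = true := by decide +kernel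

theorem orb2_15 : Cfsg.Agent.Helper28.ptChunk (Cfsg.Agent.Helper28.orbPt T 31671 subL 28160 ov2 op2 otp2 otw2) 28160 256 15 = true := by decide +kernel

end Cfsg.Agent.Helper28.C1689
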