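import Cfsg.Agent.Helper28.C1689.OrbData

set_option autoImplicit false

namespace Cfsg.Agent.Helper28.C1689

theorem orb2_80 : Cfsg.Agent.Helper28.ptChunk (Cfsg.Agent.Helper28.orbPt T 31671 subL 28160 ov2 op2 otp2 otw2) 28160 256 80 = true := by decide +kernel

theorem orb2_81 : Cfsg.Agent.Helper28.ptChunk (Cfsg.Agent.Helper28.orbPt T 31671 subL 28160 ov2 op2 otp2 otw2) 28160 256 81 = true := by decide +kernel

theorem orb2_82 : Cfsg.Agent.Helper28.ptChunk (Cfsg.Agent.Helper28.orbPt T 31671 subL 28160 ov2 op2 otp2 otw2) 28160 256 82 = true := by decide +kernel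

theorem orb2_83 : Cfsg.Agent.Helper28.ptChunk (Cfsg.Agent.Helper28.orbPt T 31671 subL 28160 ov2 op2 otp2 otw2) 28160 256 83 = true := by decide +kernel

theorem orb2_84 : Cfsg.Agent.Helper28.ptChunk (Cfsg.Agent.Helper28.orbPt T 31671 subL 28160 ov2 op2 otp2 otw2) 28160 256 84 = true := by decide +kernel

theorem orb2_85 : Cfsg.Agent.Helper28.ptChunk (Cfsg.Agent.Helper28.orbPt T 31671 subL 28160 ov2 op2 otp2 otw2) 28160 256 85 = true := by decide +kernel

theorem orb2_86 : Cfsg.Agent.Helper28.ptChunk (Cfsg.Agent.Helper28.orbPt T 31671 subL 28160 ov2 op2 otp2 otw2) 28160 256 86 = true := by decide +kernel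

theorem orb2_87 : Cfsg.Agent.Helper28.ptChunk (Cfsg.Agent.Helper28.orbPt T 31671 subL 28160 ov2 op2 otp2 otw2) 28160 256 87 = true := by decide +kernel

end Cfsg.Agent.Helper28.C1689
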