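import Cfsg.Agent.Helper28.C1689.OrbData

set_option autoImplicit false

namespace Cfsg.Agent.Helper28.C1689

theorem orb2_88 : Cfsg.Agent.Helper28.ptChunk (Cfsg.Agent.Helper28.orbPt T 31671 subL 28160 ov2 op2 otp2 otw2) 28160 256 88 = true := by decide +kernel

theorem orb2_89 : Cfsg.Agent.Helper28.ptChunk (Cfsg.Agent.Helper28.orbPt T 31671 subL 28160 ov2 op2 otp2 otw2) 28160 256 89 = true := by decide +kernel

theorem orb2_90 : Cfsg.Agent.Helper28.ptChunk (Cfsg.Agent.Helper28.orbPt T 31671 subL 28160 ov2 op2 otp2 otw2) 28160 256 90 = true := by decide +kernel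

theorem orb2_91 : Cfsg.Agent.Helper28.ptChunk (Cfsg.Agent.Helper28.orbPt T 31671 subL 28160 ov2 op2 otp2 otw2) 28160 256 91 = true := by decide +kernel

theorem orb2_92 : Cfsg.Agent.Helper28.ptChunk (Cfsg.Agent.Helper28.orbPt T 31671 subL 28160 ov2 op2 otp2 otw2) 28160 256 92 = true := by decide +kernel

theorem orb2_93 : Cfsg.Agent.Helper28.ptChunk (Cfsg.Agent.Helper28.orbPt T 31671 subL 28160 ov2 op2 otp2 otw2) 28160 256 93 = true := by decide +kernel

theorem orb2_94 : Cfsg.Agent.Helper28.ptChunk (Cfsg.Agent.Helper28.orbPt T 31671 subL 28160 ov2 op2 otp2 otw2) 28160 256 94 = true := by decide +kernel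

theorem orb2_95 : Cfsg.Agent.Helper28.ptChunk (Cfsg.Agent.Helper28.orbPt T 31671 subL 28160 ov2 op2 otp2 otw2) 28160 256 95 = true := by decide +kernel

end Cfsg.Agent.Helper28.C1689
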