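import Cfsg.Agent.Helper28.C1689.OrbData

set_option autoImplicit false

namespace Cfsg.Agent.Helper28.C1689

theorem orb2_96 : Cfsg.Agent.Helper28.ptChunk (Cfsg.Agent.Helper28.orbPt T 31671 subL 28160 ov2 op2 otp2 otw2) 28160 256 96 = true := by decide +kernel

theorem orb2_97 : Cfsg.Agent.Helper28.ptChunk (Cfsg.Agent.Helper28.orbPt T 31671 subL 28160 ov2 op2 otp2 otw2) 28160 256 97 = true := by decide +kernel

theorem orb2_98 : Cfsg.Agent.Helper28.ptChunk (Cfsg.Agent.Helper28.orbPt T 31671 subL 28160 ov2 op2 otp2 otw2) 28160 256 98 = true := by decide +kernel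

theorem orb2_99 : Cfsg.Agent.Helper28.ptChunk (Cfsg.Agent.Helper28.orbPt T 31671 subL 28160 ov2 op2 otp2 otw2) 28160 256 99 = true := by decide +kernel

theorem orb2_100 : Cfsg.Agent.Helper28.ptChunk (Cfsg.Agent.Helper28.orbPt T 31671 subL 28160 ov2 op2 otp2 otw2) 28160 256 100 = true := by decide +kernel

theorem orb2_101 : Cfsg.Agent.Helper28.ptChunk (Cfsg.Agent.Helper28.orbPt T 31671 subL 28160 ov2 op2 otp2 otw2) 28160 256 101 = true := by decide +kernel

theorem orb2_102 : Cfsg.Agent.Helper28.ptChunk (Cfsg.Agent.Helper28.orbPt T 31671 subL 28160 ov2 op2 otp2 otw2) 28160 256 102 = true := by decide +kernel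

theorem orb2_103 : Cfsg.Agent.Helper28.ptChunk (Cfsg.Agent.Helper28.orbPt T 31671 subL 28160 ov2 op2 otp2 otw2) 28160 256 103 = true := by decide +kernel

end Cfsg.Agent.Helper28.C1689
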