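import Cfsg.Agent.Helper28.TCO
import Cfsg.Agent.Helper28.C1689.Cert
import Cfsg.Agent.Helper28.C1689.Orb1_0
import Cfsg.Agent.Helper28.C1689.Orb1_1
import Cfsg.Agent.Helper28.C1689.Orb2_0
import Cfsg.Agent.Helper28.C1689.Orb2_1
import Cfsg.Agent.Helper28.C1689.Orb2_2
import Cfsg.Agent.Helper28.C1689.Orb2_3
import Cfsg.Agent.Helper28.C1689.Orb2_4
import Cfsg.Agent.Helper28.C1689.Orb2_5
import Cfsg.Agent.Helper28.C1689.Orb2_6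
import Cfsg.Agent.Helper28.C1689.Orb2_7
import Cfsg.Agent.Helper28.C1689.Orb2_8
import Cfsg.Agent.Helper28.C1689.Orb2_9
import Cfsg.Agent.Helper28.C1689.Orb2_10
import Cfsg.Agent.Helper28.C1689.Orb2_11
import Cfsg.Agent.Helper28.C1689.Orb2_12
import Cfsg.Agent.Helper28.C1689.Orb2_13

set_option autoImplicit false

namespace Cfsg.Agent.Helper28.C1689

theorem orb1_all : ∀ t, t < 3510 → Cfsg.Agent.Helper28.orbPt T 31671 subL 3510 ov1 op1 otp1 otw1 t = true :=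
  Cfsg.Agent.Helper28.pts_of_chunks _ 3510 256 14 (by decide) (by decide)
    (Cfsg.Agent.Helper28.allLt_succ _ 13 (Cfsg.Agent.Helper28.allLt_succ _ 12 (Cfsg.Agent.Helper28.allLt_succ _ 11 (Cfsg.Agent.Helper28.allLt_succ _ 10 (Cfsg.Agent.Helper28.allLt_succ _ 9 (Cfsg.Agent.Helper28.allLt_succ _ 8 (Cfsg.Agent.Helper28.allLt_succ _ 7 (Cfsg.Agent.Helper28.allLt_succ _ 6 (Cfsg.Agent.Helper28.allLt_succ _ 5 (Cfsg.Agent.Helper28.allLt_succ _ 4 (Cfsg.Agent.Helper28.allLt_succ _ 3 (Cfsg.Agent.Helper28.allLt_succ _ 2 (Cfsg.Agent.Helper28.allLt_succ _ 1 (Cfsg.Agent.Helper28.allLt_succ _ 0 (Cfsg.Agent.Helper28.allLt_zero _) orb1_0) orb1_1) orb1_2) orb1_3) orb1_4) orb1_5) orb1_6) orb1_7) orb1_8) orb1_9) orb1_10) orb1_11) orb1_12) orb1_13)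

theorem ov1_lt : ov1 0 < 31671 := by decide +kernel

theorem orb2_all : ∀ t, t < 28160 → Cfsg.Agent.Helper28.orbPt T 31671 subL 28160 ov2 op2 otp2 otw2 t = true :=
  Cfsg.Agent.Helper28.pts_of_chunks _ 28160 256 110 (by decide) (by decide)
    (Cfsg.Agent.Helper28.allLt_succ _ 109 (Cfsg.Agent.Helper28.allLt_succ _ 108 (Cfsg.Agent.Helper28.allLt_succ _ 107 (Cfsg.Agent.Helper28.allLt_succ _ 106 (Cfsg.Agent.Helper28.allLt_succ _ 105 (Cfsg.Agent.Helper28.allLt_succ _ 104 (Cfsg.Agent.Helper28.allLt_succ _ 103 (Cfsg.Agent.Helper28.allLt_succ _ 102 (Cfsg.Agent.Helper28.allLt_succ _ 101 (Cfsg.Agent.Helper28.allLt_succ _ 100 (Cfsg.Agent.Helper28.allLt_succ _ 99 (Cfsg.Agent.Helper28.allLt_succ _ 98 (Cfsg.Agent.Helper28.allLt_succ _ 97 (Cfsg.Agent.Helper28.allLt_succ _ 96 (Cfsg.Agent.Helper28.allLt_succ _ 95 (Cfsg.Agent.Helper28.allLt_succ _ 94 (Cfsg.Agent.Helper28.allLt_succ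 _ 93 (Cfsg.Agent.Helper28.allLt_succ _ 92 (Cfsg.Agent.Helper28.allLt_succ _ 91 (Cfsg.Agent.Helper28.allLt_succ _ 90 (Cfsg.Agent.Helper28.allLt_succ _ 89 (Cfsg.Agent.Helper28.allLt_succ _ 88 (Cfsg.Agent.Helper28.allLt_succ _ 87 (Cfsg.Agent.Helper28.allLt_succ _ 86 (Cfsg.Agent.Helper28.allLt_succ _ 85 (Cfsg.Agent.Helper28.allLt_succ _ 84 (Cfsg.Agent.Helper28.allLt_succ _ 83 (Cfsg.Agent.Helper28.allLt_succ _ 82 (Cfsg.Agent.Helper28.allLt_succ _ 81 (Cfsg.Agent.Helper28.allLt_succ _ 80 (Cfsg.Agent.Helper28.allLt_succ _ 79 (Cfsg.Agent.Helper28.allLt_succ _ 78 (Cfsg.Agent.Helper28.allLt_succ _ 77 (Cfsg.Agent.Helper28.allLt_succ _ 76 (Cfsg.Agent.Helper28.allLt_succ _ 75 (Cfsg.Agent.Helper28.allLt_succ _ 74 (Cfsg.Agent.Helper28.allLt_succ _ 73 (Cfsg.Agent.Helper28.allLt_succ _ 72 (Cfsg.Agent.Helper28.allLt_succ _ 71 (Cfsg.Agent.Helper28.allLt_succ _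 70 (Cfsg.Agent.Helper28.allLt_succ _ 69 (Cfsg.Agent.Helper28.allLt_succ _ 68 (Cfsg.Agent.Helper28.allLt_succ _ 67 (Cfsg.Agent.Helper28.allLt_succ _ 66 (Cfsg.Agent.Helper28.allLt_succ _ 65 (Cfsg.Agent.Helper28.allLt_succ _ 64 (Cfsg.Agent.Helper28.allLt_succ _ 63 (Cfsg.Agent.Helper28.allLt_succ _ 62 (Cfsg.Agent.Helper28.allLt_succ _ 61 (Cfsg.Agent.Helper28.allLt_succ _ 60 (Cfsg.Agent.Helper28.allLt_succ _ 59 (Cfsg.Agent.Helper28.allLt_succ _ 58 (Cfsg.Agent.Helper28.allLt_succ _ 57 (Cfsg.Agent.Helper28.allLt_succ _ 56 (Cfsg.Agent.Helper28.allLt_succ _ 55 (Cfsg.Agent.Helper28.allLt_succ _ 54 (Cfsg.Agent.Helper28.allLt_succ _ 53 (Cfsg.Agent.Helper28.allLt_succ _ 52 (Cfsg.Agent.Helper28.allLt_succ _ 51 (Cfsg.Agent.Helper28.allLt_succ _ 50 (Cfsg.Agent.Helper28.allLt_succ _ 49 (Cfsg.Agent.Helper28.allLt_succ _ 48 (Cfsg.Agent.Helper28.allLt_succ _ 47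 (Cfsg.Agent.Helper28.allLt_succ _ 46 (Cfsg.Agent.Helper28.allLt_succ _ 45 (Cfsg.Agent.Helper28.allLt_succ _ 44 (Cfsg.Agent.Helper28.allLt_succ _ 43 (Cfsg.Agent.Helper28.allLt_succ _ 42 (Cfsg.Agent.Helper28.allLt_succ _ 41 (Cfsg.Agent.Helper28.allLt_succ _ 40 (Cfsg.Agent.Helper28.allLt_succ _ 39 (Cfsg.Agent.Helper28.allLt_succ _ 38 (Cfsg.Agent.Helper28.allLt_succ _ 37 (Cfsg.Agent.Helper28.allLt_succ _ 36 (Cfsg.Agent.Helper28.allLt_succ _ 35 (Cfsg.Agent.Helper28.allLt_succ _ 34 (Cfsg.Agent.Helper28.allLt_succ _ 33 (Cfsg.Agent.Helper28.allLt_succ _ 32 (Cfsg.Agent.Helper28.allLt_succ _ 31 (Cfsg.Agent.Helper28.allLt_succ _ 30 (Cfsg.Agent.Helper28.allLt_succ _ 29 (Cfsg.Agent.Helper28.allLt_succ _ 28 (Cfsg.Agent.Helper28.allLt_succ _ 27 (Cfsg.Agent.Helper28.allLt_succ _ 26 (Cfsg.Agent.Helper28.allLt_succ _ 25 (Cfsg.Agent.Helper28.allLt_succ _ 24 (Cfsg.Agent.Helper28.allLt_succ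 _ 23 (Cfsg.Agent.Helper28.allLt_succ _ 22 (Cfsg.Agent.Helper28.allLt_succ _ 21 (Cfsg.Agent.Helper28.allLt_succ _ 20 (Cfsg.Agent.Helper28.allLt_succ _ 19 (Cfsg.Agent.Helper28.allLt_succ _ 18 (Cfsg.Agent.Helper28.allLt_succ _ 17 (Cfsg.Agent.Helper28.allLt_succ _ 16 (Cfsg.Agent.Helper28.allLt_succ _ 15 (Cfsg.Agent.Helper28.allLt_succ _ 14 (Cfsg.Agent.Helper28.allLt_succ _ 13 (Cfsg.Agent.Helper28.allLt_succ _ 12 (Cfsg.Agent.Helper28.allLt_succ _ 11 (Cfsg.Agent.Helper28.allLt_succ _ 10 (Cfsg.Agent.Helper28.allLt_succ _ 9 (Cfsg.Agent.Helper28.allLt_succ _ 8 (Cfsg.Agent.Helper28.allLt_succ _ 7 (Cfsg.Agent.Helper28.allLt_succ _ 6 (Cfsg.Agent.Helper28.allLt_succ _ 5 (Cfsg.Agent.Helper28.allLt_succ _ 4 (Cfsg.Agent.Helper28.allLt_succ _ 3 (Cfsg.Agent.Helper28.allLt_succ _ 2 (Cfsg.Agent.Helper28.allLt_succ _ 1 (Cfsg.Agent.Helper28.allLt_succ _ 0 (Cfsg.Agent.Helper28.allLt_zero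 _) orb2_0) orb2_1) orb2_2) orb2_3) orb2_4) orb2_5) orb2_6) orb2_7) orb2_8) orb2_9) orb2_10) orb2_11) orb2_12) orb2_13) orb2_14) orb2_15) orb2_16) orb2_17) orb2_18) orb2_19) orb2_20) orb2_21) orb2_22) orb2_23) orb2_24) orb2_25) orb2_26) orb2_27) orb2_28) orb2_29) orb2_30) orb2_31) orb2_32) orb2_33) orb2_34) orb2_35) orb2_36) orb2_37) orb2_38) orb2_39) orb2_40) orb2_41) orb2_42) orb2_43) orb2_44) orb2_45) orb2_46) orb2_47) orb2_48) orb2_49) orb2_50) orb2_51) orb2_52) orb2_53) orb2_54) orb2_55) orb2_56) orb2_57) orb2_58) orb2_59) orb2_60) orb2_61) orb2_62) orb2_63) orb2_64) orb2_65) orb2_66) orb2_67) orb2_68) orb2_69) orb2_70) orb2_71) orb2_72) orb2_73) orb2_74) orb2_75) orb2_76) orb2_77) orb2_78) orb2_79) orb2_80) orb2_81) orb2_82) orb2_83) orb2_84) orb2_85) orb2_86) orb2_87) orb2_88) orb2_89) orb2_90) orb2_91) orb2_92) orb2_93) orb2_94) orb2_95)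 orb2_96) orb2_97) orb2_98) orb2_99) orb2_100) orb2_101) orb2_102) orb2_103) orb2_104) orb2_105) orb2_106) orb2_107) orb2_108) orb2_109)

theorem ov2_lt : ov2 0 < 31671 := by decide +kernel

end Cfsg.Agent.Helper28.C1689
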